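import Mathlib

/-!
# Descent from a completion of finite algebras which are trivial away from the ideal

`IsComplAlong I R` says that the `B`-algebra `R` behaves like the `I`-adic completion of `B`.
-/

set_option autoImplicit false
universe u

namespace Groth.Agent.ComplAlgLib

variable {B : Type u} [CommRing B]

/-- The properties of the completion we need. -/
structure IsComplAlong (I : Ideal B) (R : Type u) [CommRing R] [Algebra B R] : Prop where
  flat : Module.Flat B R
  surj : ∀ (n : ℕ) (x : R), ∃ b : B, x - algebraMap B R b ∈ (I ^ n).map (algebraMap B R)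
  inj : ∀ (n : ℕ) (b : B), algebraMap B R b ∈ (I ^ n).map (algebraMap B R) → b ∈ I ^ n

variable {R : Type u} [CommRing R] [Algebra B R]

open TensorProduct in
/-- Solutions of linear equations in a flat algebra. -/
theorem mem_span_solutions [Module.Flat B R] {ι κ : Type} [Fintype ι] [Fintype κ]
    (M : κ → ι → B) (v : ι → R) (hv : ∀ k, ∑ i, algebraMap B R (M k i) * v i = 0) :
    v ∈ Submodule.span R {u : ι → R | ∃ w : ι → B, (∀ k, ∑ i, M k i * w i = 0) ∧
      u = fun i => algebraMap B R (w i)} := by
  classical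
  let f : (ι → B) →ₗ[B] (κ → B) :=
    { toFun := fun w k => ∑ i, M k i * w i
      map_add' := fun w w' => by ext k; simp [mul_add, Finset.sum_add_distrib]
      map_smul' := fun c w => by
        ext k
        simp only [Pi.smul_apply, smul_eq_mul, RingHom.id_apply, Finset.mul_sum]
        exact Finset.sum_congr rfl fun i _ => by ring }
  let Φ := TensorProduct.piScalarRight B R R ι
  let Ψ := TensorProduct.piScalarRight B R R κ
  have hΦ : ∀ (r : R) (w : ι → B) (i : ι), Φ (r ⊗ₜ[B] w) i = algebraMap B R (w i) * r := fun r w i => by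
    simp [Φ, Algebra.smul_def]
  have hnat : ∀ (z : R ⊗[B] (ι → B)) (k : κ),
      Ψ (f.lTensor R z) k = ∑ i, algebraMap B R (M k i) * Φ z i := by
    intro z k
    induction z with
    | zero => simp
    | tmul r w =>
      rw [LinearMap.lTensor_tmul]
      simp only [hΦ]
      simp only [Ψ, TensorProduct.piScalarRight_apply, TensorProduct.piScalarRightHom_tmul, Algebra.smul_def]
      show algebraMap B R (∑ i, M k i * w i) * r = _
      rw [map_sum, Finset.sum_mul]
      exact Finset.sum_congr rfl fun i _ => by rw [map_mul]; ring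
    | add z₁ z₂ h₁ h₂ =>
      simp only [map_add, Pi.add_apply, h₁, h₂, mul_add, Finset.sum_add_distrib]
  have hz : f.lTensor R (Φ.symm v) = 0 := by
    apply Ψ.injective
    ext k
    rw [hnat, map_zero, Pi.zero_apply, LinearEquiv.apply_symm_apply]
    exact hv k
  obtain ⟨z, hz'⟩ := ((Module.Flat.lTensor_exact R f.exact_subtype_ker_map) _).1 hz
  suffices h : ∀ z : R ⊗[B] (LinearMap.ker f), Φ ((LinearMap.ker f).subtype.lTensor R z) ∈
      Submodule.span R {u : ι → R | ∃ w : ι → B, (∀ k, ∑ i, M k i * w i = 0) ∧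
        u = fun i => algebraMap B R (w i)} by
    have := h z
    rwa [hz', LinearEquiv.apply_symm_apply] at this
  intro z
  induction z with
  | zero => simp
  | tmul r w =>
    have : Φ ((LinearMap.ker f).subtype.lTensor R (r ⊗ₜ[B] w)) =
        r • (fun i => algebraMap B R ((w : ι → B) i)) := by
      ext i
      rw [LinearMap.lTensor_tmul]
      simp only [hΦ, Pi.smul_apply, smul_eq_mul, Submodule.coe_subtype, mul_comm]
    rw [this]
    exact Submodule.smul_mem _ _ (Submodule.subset_span ⟨w, fun k => congrFun (LinearMap.mem_ker.1 w.2) k, rfl⟩)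
  | add z₁ z₂ h₁ h₂ => rw [map_add, map_add]; exact Submodule.add_mem _ h₁ h₂

/-- Equations modulo an ideal. -/
theorem mem_span_solutions_mod [Module.Flat B R] [IsNoetherianRing B] {ι κ : Type} [Fintype ι] [Fintype κ]
    (T₀ : Ideal B) (M : κ → ι → B) (v : ι → R)
    (hv : ∀ k, ∑ i, algebraMap B R (M k i) * v i ∈ T₀.map (algebraMap B R)) :
    v ∈ Submodule.span R {u : ι → R | ∃ w : ι → B, (∀ k, ∑ i, M k i * w i ∈ T₀) ∧
      u = fun i => algebraMap B R (w i)} := by
  classical
  obtain ⟨s, t, ht⟩ := Submodule.fg_iff_exists_fin_generating_family.1 (IsNoetherian.noetherian T₀)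
  have hc : ∀ k, ∃ c : Fin s → R, ∑ l, c l * algebraMap B R (t l) = ∑ i, algebraMap B R (M k i) * v i := by
    intro k
    have h := hv k
    rw [← ht, ← Ideal.span, Ideal.map_span, ← Set.range_comp] at h
    exact Ideal.mem_span_range_iff_exists_fun.1 h
  choose c hc using hc
  let M' : κ → (ι ⊕ (κ × Fin s)) → B := fun k x =>
    Sum.elim (fun i => M k i) (fun p => if p.1 = k then -t p.2 else 0) x
  let v' : (ι ⊕ (κ × Fin s)) → R := Sum.elim v (fun p => c p.1 p.2)
  have hv' : ∀ k, ∑ x, algebraMap B R (M' k x) * v' x = 0 := by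
    intro k
    rw [Fintype.sum_sum_type, Fintype.sum_prod_type]
    simp only [M', v', Sum.elim_inl, Sum.elim_inr]
    rw [Finset.sum_eq_single k (fun b _ hb => by simp [hb]) (by simp)]
    simp only [if_true, map_neg, neg_mul, Finset.sum_neg_distrib]
    rw [← hc k, add_neg_eq_zero]
    exact Finset.sum_congr rfl fun l _ => mul_comm _ _
  have hsp := mem_span_solutions M' v' hv'
  let restrict : ((ι ⊕ (κ × Fin s)) → R) →ₗ[R] (ι → R) := LinearMap.funLeft R R Sum.inl
  have := Submodule.mem_map_of_mem (f := restrict) hsp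
  rw [Submodule.map_span] at this
  refine Submodule.span_mono ?_ this
  rintro _ ⟨_, ⟨w, hw, rfl⟩, rfl⟩
  refine ⟨fun i => w (Sum.inl i), fun k => ?_, rfl⟩
  have h := hw k
  rw [Fintype.sum_sum_type] at h
  simp only [M', Sum.elim_inl, Sum.elim_inr] at h
  rw [eq_neg_of_add_eq_zero_left h]
  refine neg_mem (Ideal.sum_mem _ fun p _ => Ideal.mul_mem_right _ _ ?_)
  split
  · exact neg_mem (ht ▸ Submodule.subset_span ⟨_, rfl⟩)
  · exact zero_mem _

namespace IsComplAlong

variable {I : Ideal B} (H : IsComplAlong I R) {r : ℕ} (a : Fin r → B) {k : ℕ}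
  (hk : I ^ k ≤ Ideal.span (Set.range a))

include H hk

/-- An element of `R` is a constant plus a combination of the `a i`. -/
theorem exists_const (x : R) : ∃ (b : B) (c : Fin r → R),
    x = algebraMap B R b + ∑ i, c i * algebraMap B R (a i) := by
  obtain ⟨b, hb⟩ := H.surj k x
  have h := Ideal.map_mono hk hb
  rw [Ideal.map_span, ← Set.range_comp] at h
  obtain ⟨c, hc⟩ := Ideal.mem_span_range_iff_exists_fun.1 h
  simp only [Function.comp_apply] at hc
  exact ⟨b, c, by rw [hc]; ring⟩

/-- Torsion comes from below. -/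
theorem torsion_mem_range [IsNoetherianRing B] (y : R) (hy : ∀ i, algebraMap B R (a i) * y = 0) :
    y ∈ (algebraMap B R).range := by
  haveI := H.flat
  have h := mem_span_solutions (ι := Unit) (fun i _ => a i) (fun _ => y) (fun i => by simpa using hy i)
  suffices hsp : ∀ v : Unit → R, v ∈ Submodule.span R {u : Unit → R | ∃ w : Unit → B,
      (∀ i, ∑ x, a i * w x = 0) ∧ u = fun x => algebraMap B R (w x)} →
      (∀ i, algebraMap B R (a i) * v () = 0) ∧ v () ∈ (algebraMap B R).range from (hsp _ h).2
  intro v hv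
  induction hv using Submodule.span_induction with
  | mem u hu =>
    obtain ⟨w, hw, rfl⟩ := hu
    refine ⟨fun i => ?_, ⟨_, rfl⟩⟩
    have := hw i
    simp only [Finset.univ_unique, PUnit.default_eq_unit, Finset.sum_singleton] at this
    rw [← map_mul, this, map_zero]
  | zero => exact ⟨fun i => mul_zero _, zero_mem _⟩
  | add u u' _ _ h h' =>
    exact ⟨fun i => by rw [Pi.add_apply, mul_add, h.1, h'.1, add_zero], add_mem h.2 h'.2⟩
  | smul x u _ h =>
    obtain ⟨h1, h2⟩ := h
    refine ⟨fun i => by rw [Pi.smul_apply, smul_eq_mul, mul_left_comm, h1, mul_zero], ?_⟩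
    obtain ⟨b, c, rfl⟩ := H.exists_const a hk x
    rw [Pi.smul_apply, smul_eq_mul, add_mul, Finset.sum_mul]
    simp only [mul_assoc, h1, mul_zero, Finset.sum_const_zero, add_zero]
    exact mul_mem ⟨b, rfl⟩ h2

/-- Elements with multiples coming from below come from below. -/
theorem mem_range_of_mul [IsNoetherianRing B] (x : R)
    (hx : ∀ i, algebraMap B R (a i) * x ∈ (algebraMap B R).range) : x ∈ (algebraMap B R).range := by
  classical
  choose β hβ using hx
  let N : Submodule B (Fin r → B) := B ∙ a
  have hmem : N.mkQ β ∈ (⨅ n : ℕ, I ^ n • ⊤ : Submodule B ((Fin r → B) ⧸ N)) := by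
    refine Submodule.mem_iInf _ |>.2 fun n => ?_
    obtain ⟨b, hb⟩ := H.surj n x
    have hd : ∀ i, β i - a i * b ∈ I ^ n := fun i => by
      apply H.inj n
      rw [map_sub, map_mul, hβ i, ← mul_sub]
      exact Ideal.mul_mem_left _ _ hb
    have he : N.mkQ β = N.mkQ (fun i => β i - a i * b) := by
      rw [← sub_eq_zero, ← map_sub]
      refine (Submodule.Quotient.mk_eq_zero N).2 (Submodule.mem_span_singleton.2 ⟨b, ?_⟩)
      ext i
      simp [mul_comm]
    rw [he, show (fun i => β i - a i * b) = ∑ i, (β i - a i * b) • (Pi.single i 1 : Fin r → B) from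
      (pi_eq_sum_univ' _), map_sum]
    refine Submodule.sum_mem _ fun i _ => ?_
    rw [map_smul]
    exact Submodule.smul_mem_smul (hd i) Submodule.mem_top
  obtain ⟨e, he⟩ := (Ideal.mem_iInf_smul_pow_eq_bot_iff I _).1 hmem
  have hek : ∀ m : ℕ, ((e : B) ^ m) • N.mkQ β = N.mkQ β := by
    intro m
    induction m with
    | zero => simp
    | succ m ih => rw [pow_succ, mul_smul, he, ih]
  have hsp := hk (Ideal.pow_mem_pow e.2 k)
  obtain ⟨c, hc⟩ := Ideal.mem_span_range_iff_exists_fun.1 hsp
  have h0 : N.mkQ (β - (e : B) ^ k • β) = 0 := by rw [map_sub, map_smul, hek, sub_self]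
  obtain ⟨b₀, hb₀⟩ := Submodule.mem_span_singleton.1 ((Submodule.Quotient.mk_eq_zero N).1 h0)
  let d : B := b₀ + ∑ j, c j * β j
  have hd : ∀ i, algebraMap B R (a i) * (x - algebraMap B R d) = 0 := by
    intro i
    have h1 : β i - (e : B) ^ k * β i = b₀ * a i := by
      have := congrFun hb₀ i
      simpa using this.symm
    have h2 : algebraMap B R ((e : B) ^ k * β i) = algebraMap B R ((∑ j, c j * β j) * a i) := by
      rw [← hc, Finset.sum_mul, Finset.sum_mul, map_sum, map_sum]
      refine Finset.sum_congr rfl fun j _ => ?_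
      simp only [map_mul, hβ]
      ring
    have h3 : algebraMap B R (β i) = algebraMap B R (d * a i) := by
      have := congrArg (algebraMap B R) h1
      rw [map_sub, h2] at this
      rw [show d * a i = b₀ * a i + (∑ j, c j * β j) * a i from add_mul _ _ _, map_add, ← this]
      ring
    rw [mul_sub, ← hβ i, h3, map_mul, mul_comm (algebraMap B R d), sub_self]
  obtain ⟨t, ht⟩ := H.torsion_mem_range a hk _ hd
  exact ⟨t + d, by rw [map_add, ht, sub_add_cancel]⟩

end IsComplAlong

end Groth.Agent.ComplAlgLib
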