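import Mathlib
import Groth.Agent.ComplAlgLib.Descend

/-!
# Algebraization of quotients of a completion which are open away from the ideal
-/

set_option autoImplicit false
universe u

open Polynomial

namespace Groth.Agent.ComplAlgLib

variable {B : Type u} [CommRing B] {R : Type u} [CommRing R] [Algebra B R]

/-- If `I J ⊆ J²` then `I` lies in the radical of `J + Ann J`. -/
theorem map_le_radical_sup_annihilator [IsNoetherianRing R] (J L : Ideal R) (hJ : L * J ≤ J ^ 2) :
    L ≤ (J ⊔ Submodule.annihilator J).radical := by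
  intro x hx
  let f : Module.End R J := algebraMap R (Module.End R J) x
  have hf : LinearMap.range f ≤ J • (⊤ : Submodule R J) := by
    rintro _ ⟨y, rfl⟩
    have h1 : x * (y : R) ∈ Submodule.map J.subtype (J • (⊤ : Submodule R J)) := by
      rw [Submodule.map_smul'', Submodule.map_top, Submodule.range_subtype, smul_eq_mul, ← pow_two]
      exact hJ (Ideal.mul_mem_mul hx y.2)
    obtain ⟨z, hz, hzy⟩ := h1
    have : f y = z := Subtype.ext (by simpa [f, Module.algebraMap_end_apply] using hzy.symm)
    rw [this]; exact hz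
  obtain ⟨p, hp, -, hcoef, haev⟩ :=
    LinearMap.exists_monic_and_natDegree_eq_and_coeff_mem_pow_and_aeval_eq_zero R f J hf
  have hann : p.eval x ∈ Submodule.annihilator J := by
    refine Submodule.mem_annihilator.2 fun y hy => ?_
    have h := LinearMap.congr_fun haev ⟨y, hy⟩
    rw [Polynomial.aeval_algebraMap_apply, Polynomial.coe_aeval_eq_eval] at h
    simpa [Module.algebraMap_end_apply] using congrArg Subtype.val h
  refine ⟨p.natDegree, ?_⟩
  have hsum := Polynomial.eval_eq_sum_range (p := p) x
  rw [Finset.sum_range_succ, hp.coeff_natDegree, one_mul] at hsum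
  rw [eq_sub_of_add_eq' hsum.symm]
  refine sub_mem (Submodule.mem_sup_right hann) (Submodule.mem_sup_left (Ideal.sum_mem _ fun i hi => ?_))
  refine Ideal.mul_mem_right _ _ (Ideal.pow_le_self ?_ (hcoef i))
  have := Finset.mem_range.1 hi
  omega

/-- `D` with its map to `C` is a model of `C` along `I`. -/
structure IsModel (I : Ideal B) {C D : Type u} [CommRing C] [CommRing D] [Algebra B C] [Algebra B D]
    (φ : D →ₐ[B] C) : Prop where
  inj : ∀ (n : ℕ) (d : D), φ d ∈ (I ^ n).map (algebraMap B C) → d ∈ (I ^ n).map (algebraMap B D)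
  surj : ∀ (n : ℕ) (x : C), ∃ d : D, x - φ d ∈ (I ^ n).map (algebraMap B C)

/-- Elements with small components are small. -/
theorem mem_map_prod (L : Ideal B) {C C' : Type u} [CommRing C] [CommRing C'] [Algebra B C] [Algebra B C']
    (z : C × C') (h1 : z.1 ∈ L.map (algebraMap B C)) (h2 : z.2 ∈ L.map (algebraMap B C')) :
    z ∈ L.map (algebraMap B (C × C')) := by
  have key1 : L.map (algebraMap B C) = (L.map (algebraMap B (C × C'))).map (RingHom.fst C C') := by
    rw [Ideal.map_map]; rfl
  have key2 : L.map (algebraMap B C') = (L.map (algebraMap B (C × C'))).map (RingHom.snd C C') := by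
    rw [Ideal.map_map]; rfl
  rw [key1, Ideal.mem_map_iff_of_surjective (RingHom.fst C C') (fun c => ⟨(c, 0), rfl⟩)] at h1
  rw [key2, Ideal.mem_map_iff_of_surjective (RingHom.snd C C') (fun c => ⟨(0, c), rfl⟩)] at h2
  obtain ⟨y, hy, hy'⟩ := h1
  obtain ⟨w, hw, hw'⟩ := h2
  have : z = (1, 0) * y + (0, 1) * w := by
    ext
    · simpa using hy'.symm
    · simpa using hw'.symm
  rw [this]
  exact add_mem (Ideal.mul_mem_left _ _ hy) (Ideal.mul_mem_left _ _ hw)

/-- Scalars from `R` restricted to `B` on something killed by the `a i`. -/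
theorem fg_restrict_of_killed {E : Type u} [AddCommGroup E] [Module B E] [Module R E] [IsScalarTower B R E]
    {r : ℕ} (a : Fin r → B)
    (hconst : ∀ x : R, ∃ (b : B) (c : Fin r → R), x = algebraMap B R b + ∑ i, c i * algebraMap B R (a i))
    (N : Submodule R E) (hN : N.FG) (hkill : ∀ y ∈ N, ∀ i, a i • y = 0) : (N.restrictScalars B).FG := by
  obtain ⟨s, rfl⟩ := hN
  refine ⟨s, le_antisymm ?_ ?_⟩
  · rw [Submodule.span_le]
    exact fun y hy => Submodule.subset_span hy
  · intro y hy
    rw [Submodule.restrictScalars_mem] at hy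
    induction hy using Submodule.span_induction with
    | mem y hy => exact Submodule.subset_span hy
    | zero => exact zero_mem _
    | add _ _ _ _ h h' => exact add_mem h h'
    | smul x y hy h =>
      obtain ⟨b, c, rfl⟩ := hconst x
      rw [add_smul, algebraMap_smul, Finset.sum_smul]
      refine add_mem (Submodule.smul_mem _ _ h) (Submodule.sum_mem _ fun i _ => ?_)
      rw [mul_smul, algebraMap_smul, hkill y hy i, smul_zero]
      exact zero_mem _

namespace IsComplAlong

variable [IsNoetherianRing B] {I : Ideal B}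

/-- Algebraization. -/
theorem exists_model [IsNoetherianRing R] (H : IsComplAlong I R) {C : Type u} [CommRing C] [Algebra B C]
    [Algebra R C] [IsScalarTower B R C] (hsurj : Function.Surjective (algebraMap R C))
    (hC : I.map (algebraMap B C) ≤ Ideal.jacobson ⊥) (c : ℕ)
    (hJ : (I ^ c).map (algebraMap B R) * RingHom.ker (algebraMap R C) ≤ RingHom.ker (algebraMap R C) ^ 2) :
    ∃ (D : Type u) (_ : CommRing D) (_ : Algebra B D), Algebra.FiniteType B D ∧
      ∃ φ : D →ₐ[B] C, IsModel I φ := by
  classical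
  set J := RingHom.ker (algebraMap R C) with hJdef
  set K : Ideal R := Submodule.annihilator J with hKdef
  -- a power of `I` lies in `J + K`
  obtain ⟨N, hN⟩ := Ideal.exists_pow_le_of_le_radical_of_fg
    (map_le_radical_sup_annihilator J _ hJ) (IsNoetherian.noetherian _)
  obtain ⟨r, a, ha⟩ := Submodule.fg_iff_exists_fin_generating_family.1
    (IsNoetherian.noetherian ((I ^ c) ^ N))
  have hk : I ^ (c * N) ≤ Ideal.span (Set.range a) := by rw [pow_mul, Ideal.span, ha]
  have haJK : ∀ i, algebraMap B R (a i) ∈ J ⊔ K := fun i => hN (by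
    rw [← Ideal.map_pow]
    exact Ideal.mem_map_of_mem _ (ha ▸ Submodule.subset_span ⟨i, rfl⟩))
  have hTkill : ∀ y : R, y ∈ J → y ∈ K → ∀ i, algebraMap B R (a i) * y = 0 := by
    intro y hy hy' i
    obtain ⟨j, hj, l, hl, hjl⟩ := Submodule.mem_sup.1 (haJK i)
    rw [← hjl, add_mul]
    have h1 : j * y = 0 := by
      have := Submodule.mem_annihilator.1 hy' j hj
      rwa [smul_eq_mul, mul_comm] at this
    have h2 : l * y = 0 := by simpa using Submodule.mem_annihilator.1 hl y hy
    rw [h1, h2, add_zero]
  -- the product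
  let ι : R →+* C × (R ⧸ K) := algebraMap R (C × (R ⧸ K))
  have hι : ∀ y : R, ι y = 0 → y ∈ J ∧ y ∈ K := fun y hy =>
    ⟨RingHom.mem_ker.2 (congrArg Prod.fst hy), Ideal.Quotient.eq_zero_iff_mem.1 (congrArg Prod.snd hy)⟩
  have hT : ∀ y : R, ι y = 0 → y ∈ (algebraMap B R).range := fun y hy =>
    H.torsion_mem_range a hk y (hTkill y (hι y hy).1 (hι y hy).2)
  have hBι : ∀ b : B, algebraMap B (C × (R ⧸ K)) b = ι (algebraMap B R b) := fun b =>
    IsScalarTower.algebraMap_apply B R _ b
  have hcoker : ∀ (i : Fin r) (z : C × (R ⧸ K)), ∃ v : R, ι v = algebraMap B _ (a i) * z := by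
    intro i z
    obtain ⟨j, hj, l, hl, hjl⟩ := Submodule.mem_sup.1 (haJK i)
    obtain ⟨x, hx⟩ := hsurj z.1
    obtain ⟨y, hy⟩ := Ideal.Quotient.mk_surjective z.2
    refine ⟨l * x + j * y, ?_⟩
    have h1 : algebraMap R C j = 0 := hj
    have h2 : Ideal.Quotient.mk K l = 0 := Ideal.Quotient.eq_zero_iff_mem.2 hl
    rw [hBι, ← hjl]
    ext
    · show algebraMap R C (l * x + j * y) = algebraMap R C (j + l) * z.1
      rw [map_add, map_add, map_mul, map_mul, h1, ← hx]; ring
    · show Ideal.Quotient.mk K (l * x + j * y) = Ideal.Quotient.mk K (j + l) * z.2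
      rw [map_add, map_add, map_mul, map_mul, h2, ← hy]; ring
  -- descent to the image of `B`
  have hD : ∀ v : R, (∀ i, algebraMap B _ (a i) * ι v ∈ (algebraMap B (C × (R ⧸ K))).range) →
      v ∈ (algebraMap B R).range := by
    intro v hv
    refine H.mem_range_of_mul a hk v fun i => ?_
    obtain ⟨b, hb⟩ := hv i
    rw [hBι, hBι, ← map_mul, eq_comm, ← sub_eq_zero, ← map_sub] at hb
    obtain ⟨t, ht⟩ := hT _ hb
    exact ⟨t + b, by rw [map_add, ht, sub_add_cancel]⟩
  -- the subalgebra
  let S : Subalgebra B (C × (R ⧸ K)) :=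
    { carrier := {z | ∀ i, algebraMap B _ (a i) * z ∈ (algebraMap B (C × (R ⧸ K))).range}
      mul_mem' := fun {z w} hz hw i => by
        obtain ⟨v, hv⟩ := hcoker i (z * w)
        have : v ∈ (algebraMap B R).range := hD v fun l => by
          rw [hv]
          have : algebraMap B (C × (R ⧸ K)) (a l) * (algebraMap B _ (a i) * (z * w)) =
              (algebraMap B _ (a l) * z) * (algebraMap B _ (a i) * w) := by ring
          rw [this]
          exact mul_mem (hz l) (hw i)
        obtain ⟨b, hb⟩ := this
        exact ⟨b, by rw [hBι, hb, hv]⟩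
      add_mem' := fun {z w} hz hw i => by rw [mul_add]; exact add_mem (hz i) (hw i)
      algebraMap_mem' := fun b i => ⟨a i * b, map_mul _ _ _⟩ }
  have hmemS : ∀ z, z ∈ S ↔ ∀ i, algebraMap B _ (a i) * z ∈ (algebraMap B (C × (R ⧸ K))).range :=
    fun _ => Iff.rfl
  -- everything is `S` plus the image of `R`
  have hsum : ∀ z : C × (R ⧸ K), ∃ d : R, z - ι d ∈ S := by
    intro z
    choose v hv using fun i => hcoker i z
    let T₀ : Ideal B := RingHom.ker (algebraMap B (C × (R ⧸ K)))
    let M : Fin r × Fin r → Fin r → B := fun p i =>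
      (if i = p.1 then a p.2 else 0) - (if i = p.2 then a p.1 else 0)
    have := H.flat
    have hsol : v ∈ _ := mem_span_solutions_mod T₀ M v (fun p => by
      have e : ∑ i, algebraMap B R (M p i) * v i =
          algebraMap B R (a p.2) * v p.1 - algebraMap B R (a p.1) * v p.2 := by
        simp [M, map_sub, sub_mul, Finset.sum_sub_distrib, apply_ite (algebraMap B R), ite_mul]
      rw [e]
      have h0 : ι (algebraMap B R (a p.2) * v p.1 - algebraMap B R (a p.1) * v p.2) = 0 := by
        rw [map_sub, map_mul, map_mul, ← hBι, ← hBι, hv, hv]; ring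
      obtain ⟨t, ht⟩ := hT _ h0
      rw [← ht]
      refine Ideal.mem_map_of_mem _ (RingHom.mem_ker.2 ?_)
      rw [hBι, ht, h0])
    have hG : ∀ u : Fin r → R, u ∈ Submodule.span R {u : Fin r → R | ∃ w : Fin r → B,
        (∀ p, ∑ i, M p i * w i ∈ T₀) ∧ u = fun i => algebraMap B R (w i)} →
        ∃ (w : Fin r → B) (d : R), (∀ p, ∑ i, M p i * w i ∈ T₀) ∧
          ∀ i, ι (u i) = ι (algebraMap B R (w i)) + algebraMap B _ (a i) * ι d := by
      intro u hu
      induction hu using Submodule.span_induction with
      | mem u hu =>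
        obtain ⟨w, hw, rfl⟩ := hu
        exact ⟨w, 0, hw, fun i => by simp⟩
      | zero => exact ⟨0, 0, fun p => by simp, fun i => by simp⟩
      | add u u' _ _ h h' =>
        obtain ⟨w, d, hw, he⟩ := h
        obtain ⟨w', d', hw', he'⟩ := h'
        refine ⟨w + w', d + d', fun p => ?_, fun i => ?_⟩
        · simpa [mul_add, Finset.sum_add_distrib] using add_mem (hw p) (hw' p)
        · simp only [Pi.add_apply, map_add, he, he']; ring
      | smul x u _ h =>
        obtain ⟨w, d, hw, he⟩ := h
        obtain ⟨b, e, rfl⟩ := H.exists_const a hk x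
        refine ⟨fun i => b * w i, (algebraMap B R b + ∑ j, e j * algebraMap B R (a j)) * d +
          ∑ j, e j * algebraMap B R (w j), fun p => ?_, fun i => ?_⟩
        · have : ∑ i, M p i * (b * w i) = b * ∑ i, M p i * w i := by
            rw [Finset.mul_sum]; exact Finset.sum_congr rfl fun i _ => by ring
          rw [this]; exact Ideal.mul_mem_left _ _ (hw p)
        · have hrel : ∀ j, algebraMap B (C × (R ⧸ K)) (a j) * ι (algebraMap B R (w i)) =
              algebraMap B _ (a i) * ι (algebraMap B R (w j)) := fun j => by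
            have h := hw (i, j)
            simp only [M, sub_mul, Finset.sum_sub_distrib, ite_mul, zero_mul, Finset.sum_ite_eq',
              Finset.mem_univ, if_true, T₀, RingHom.mem_ker, map_sub, map_mul, sub_eq_zero] at h
            rw [← hBι, ← hBι]; exact h
          have hs : ∑ j, ι (e j) * algebraMap B _ (a j) * ι (algebraMap B R (w i)) =
              algebraMap B _ (a i) * ∑ j, ι (e j) * ι (algebraMap B R (w j)) := by
            rw [Finset.mul_sum]
            exact Finset.sum_congr rfl fun j _ => by rw [mul_assoc, hrel]; ring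
          rw [Pi.smul_apply, smul_eq_mul, map_mul, he i]
          simp only [map_add, map_mul, map_sum, ← hBι, ← Finset.sum_mul] at hs ⊢
          linear_combination hs
    obtain ⟨w, d, -, he⟩ := hG v hsol
    refine ⟨d, (hmemS _).2 fun i => ⟨w i, ?_⟩⟩
    rw [mul_sub, ← hv i, he i, hBι]; ring
  -- the trace of powers of `I` on `S`
  have hSsurj : ∀ (n : ℕ) (z : C × (R ⧸ K)), ∃ s : S, z - (s : C × (R ⧸ K)) ∈ (I ^ n).map (algebraMap B _) := by
    intro n z
    obtain ⟨d, hd⟩ := hsum z
    obtain ⟨b, hb⟩ := H.surj n d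
    refine ⟨⟨z - ι d + algebraMap B _ b, add_mem hd (S.algebraMap_mem b)⟩, ?_⟩
    show z - (z - ι d + algebraMap B _ b) ∈ _
    rw [hBι, show z - (z - ι d + ι (algebraMap B R b)) = ι (d - algebraMap B R b) by rw [map_sub]; ring,
      IsScalarTower.algebraMap_eq B R (C × (R ⧸ K)), ← Ideal.map_map]
    exact Ideal.mem_map_of_mem ι hb
  have hSinj : ∀ (n : ℕ) (s : S), (s : C × (R ⧸ K)) ∈ (I ^ n).map (algebraMap B _) →
      s ∈ (I ^ n).map (algebraMap B S) := by
    intro n s hs
    have hdec : ∀ z ∈ (I ^ n).map (algebraMap B (C × (R ⧸ K))), ∃ (t : S) (d : R),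
        t ∈ (I ^ n).map (algebraMap B S) ∧ d ∈ (I ^ n).map (algebraMap B R) ∧
          z = (t : C × (R ⧸ K)) + ι d := by
      intro z hz
      have hz' : z ∈ ((I ^ n) • ⊤ : Submodule B (C × (R ⧸ K))) := by
        rw [Ideal.smul_top_eq_map]; exact hz
      refine Submodule.smul_induction_on hz' (fun b hb x _ => ?_) (fun x y hx hy => ?_)
      · obtain ⟨d, hd⟩ := hsum x
        refine ⟨⟨_, S.smul_mem hd b⟩, algebraMap B R b * d, ?_, ?_, ?_⟩
        · have : (⟨b • (x - ι d), S.smul_mem hd b⟩ : S) = algebraMap B S b * ⟨_, hd⟩ :=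
            Subtype.ext (Algebra.smul_def _ _)
          rw [this]; exact Ideal.mul_mem_right _ _ (Ideal.mem_map_of_mem _ hb)
        · exact Ideal.mul_mem_right _ _ (Ideal.mem_map_of_mem _ hb)
        · show b • x = b • (x - ι d) + ι (algebraMap B R b * d)
          rw [map_mul, ← hBι, Algebra.smul_def, Algebra.smul_def]; ring
      · obtain ⟨t, d, ht, hd, hxe⟩ := hx
        obtain ⟨t', d', ht', hd', hye⟩ := hy
        exact ⟨t + t', d + d', add_mem ht ht', add_mem hd hd', by
          rw [hxe, hye, S.coe_add, map_add]; ring⟩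
    obtain ⟨t, d, ht, hd, he⟩ := hdec _ hs
    have hdS : ι d ∈ S := by
      rw [show ι d = (s : C × (R ⧸ K)) - (t : C × (R ⧸ K)) by rw [he]; ring]
      exact sub_mem s.2 t.2
    obtain ⟨b, hb⟩ := hD d hdS
    have hbI := H.inj n b (hb ▸ hd)
    have : s = t + algebraMap B S b := Subtype.ext (by
      rw [S.coe_add, he, ← hb, ← hBι]; rfl)
    rw [this]
    exact add_mem ht (Ideal.mem_map_of_mem _ hbI)
  -- finiteness
  haveI : Module.Finite R (C × (R ⧸ K)) := by
    haveI : Module.Finite R C := Module.Finite.of_surjective (Algebra.linearMap R C) hsurj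
    infer_instance
  haveI : IsNoetherian R (C × (R ⧸ K)) := isNoetherian_of_isNoetherianRing_of_finite R _
  haveI hSfin : Module.Finite B S := by
    show Module.Finite B (Subalgebra.toSubmodule S)
    refine Module.Finite.iff_fg.2 ?_
    let g : (C × (R ⧸ K)) →ₗ[B] (Fin r → C × (R ⧸ K)) :=
      LinearMap.pi fun i => a i • LinearMap.id
    refine Submodule.fg_of_fg_map_of_fg_inf_ker g ?_ ?_
    · let W : Submodule B (Fin r → C × (R ⧸ K)) :=
        LinearMap.range (LinearMap.pi fun i : Fin r =>
          (Algebra.linearMap B (C × (R ⧸ K))).comp (LinearMap.proj i : (Fin r → B) →ₗ[B] B))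
      have hle : (Subalgebra.toSubmodule S).map g ≤ W := by
        rintro _ ⟨z, hz, rfl⟩
        choose b hb using (hmemS z).1 hz
        exact ⟨b, funext fun i => by simp [g, hb, Algebra.smul_def]⟩
      have hW : W.FG := by
        simp only [W]
        rw [LinearMap.range_eq_map]
        exact Submodule.FG.map _ Module.Finite.fg_top
      exact isNoetherian_submodule.1 (isNoetherian_of_fg_of_noetherian W hW) _ hle
    · let Z : Submodule R (C × (R ⧸ K)) :=
        { carrier := {z | ∀ i, algebraMap B _ (a i) * z = 0}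
          zero_mem' := fun i => mul_zero _
          add_mem' := fun {z w} hz hw i => by rw [mul_add, hz, hw, add_zero]
          smul_mem' := fun x z hz i => by rw [mul_smul_comm, hz, smul_zero] }
      have hfg := fg_restrict_of_killed a (H.exists_const a hk) Z (IsNoetherian.noetherian Z)
        (fun y hy i => by rw [Algebra.smul_def]; exact hy i)
      have : Subalgebra.toSubmodule S ⊓ LinearMap.ker g = Z.restrictScalars B := by
        ext z
        simp only [Submodule.mem_inf, LinearMap.mem_ker, Subalgebra.mem_toSubmodule, g,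
          Submodule.restrictScalars_mem]
        constructor
        · intro h i
          have := congrFun h.2 i
          simpa [Algebra.smul_def] using this
        · intro h
          have hh : ∀ i, algebraMap B (C × (R ⧸ K)) (a i) * z = 0 := h
          exact ⟨(hmemS z).2 fun i => ⟨0, by rw [map_zero, hh i]⟩,
            funext fun i => by simpa [Algebra.smul_def] using hh i⟩
      rw [this]; exact hfg
  -- the idempotent
  obtain ⟨s, hs⟩ := hSsurj 1 ((1, 0) : C × (R ⧸ K))
  rw [pow_one] at hs
  have hs1 : 1 - (s : C × (R ⧸ K)).1 ∈ I.map (algebraMap B C) := by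
    have := Ideal.mem_map_of_mem (RingHom.fst C (R ⧸ K)) hs
    rwa [Ideal.map_map] at this
  have hfst : (RingHom.fst C (R ⧸ K)).comp (algebraMap B (C × (R ⧸ K))) = algebraMap B C := rfl
  have hsnd : (RingHom.snd C (R ⧸ K)).comp (algebraMap B (C × (R ⧸ K))) = algebraMap B (R ⧸ K) := rfl
  have hs2 : (s : C × (R ⧸ K)).2 ∈ I.map (algebraMap B (R ⧸ K)) := by
    have := Ideal.mem_map_of_mem (RingHom.snd C (R ⧸ K)) hs
    rw [Ideal.map_map, hsnd] at this
    simpa using neg_mem this
  let p : S →ₐ[B] C := (AlgHom.fst B C (R ⧸ K)).comp S.val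
  have hunit : IsUnit (p s) := by
    have := Ideal.mem_jacobson_bot.1 (hC hs1) (-1)
    rw [show (1 - (s : C × (R ⧸ K)).1) * -1 + 1 = p s from by
      show _ = (s : C × (R ⧸ K)).1
      ring] at this
    exact this
  have hpow : ∀ y : Submonoid.powers s, IsUnit (p y) := by
    rintro ⟨_, m, rfl⟩; rw [map_pow]; exact hunit.pow m
  haveI : Algebra.FiniteType S (Localization.Away s) := IsLocalization.finiteType_of_monoid_fg (Submonoid.powers s) _
  refine ⟨Localization.Away s, inferInstance, inferInstance,
    Algebra.FiniteType.trans (S := S) inferInstance inferInstance,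
    IsLocalization.liftAlgHom (M := Submonoid.powers s) (S := Localization.Away s) hpow, ?_, ?_⟩
  · intro n d hd
    obtain ⟨⟨x, y⟩, hxy⟩ := IsLocalization.surj (Submonoid.powers s) d
    have hx : p x ∈ (I ^ n).map (algebraMap B C) := by
      have := congrArg (IsLocalization.liftAlgHom (M := Submonoid.powers s) (S := Localization.Away s) hpow) hxy
      rw [map_mul] at this
      simp only [IsLocalization.liftAlgHom_apply, IsLocalization.lift_eq, AlgHom.toRingHom_eq_coe,
        RingHom.coe_coe] at this
      rw [← this]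
      exact Ideal.mul_mem_right _ _ hd
    have hxs : x * s ^ n ∈ (I ^ n).map (algebraMap B S) := by
      refine hSinj n _ (mem_map_prod _ _ ?_ ?_)
      · exact Ideal.mul_mem_right _ _ hx
      · show (x : C × (R ⧸ K)).2 * ((s : C × (R ⧸ K)).2) ^ n ∈ _
        refine Ideal.mul_mem_left _ _ ?_
        rw [Ideal.map_pow]; exact Ideal.pow_mem_pow hs2 n
    have hmem := Ideal.mem_map_of_mem (algebraMap S (Localization.Away s)) hxs
    rw [Ideal.map_map, ← IsScalarTower.algebraMap_eq, map_mul, map_pow] at hmem
    have hu : IsUnit (algebraMap S (Localization.Away s) s ^ n) :=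
      (IsLocalization.map_units _ (⟨s, 1, pow_one s⟩ : Submonoid.powers s)).pow n
    rw [Ideal.mul_unit_mem_iff_mem _ hu, ← hxy,
      Ideal.mul_unit_mem_iff_mem _ (IsLocalization.map_units _ y)] at hmem
    exact hmem
  · intro n x
    obtain ⟨t, ht⟩ := hSsurj n (x, 0)
    refine ⟨algebraMap S _ t, ?_⟩
    have := Ideal.mem_map_of_mem (RingHom.fst C (R ⧸ K)) ht
    rw [Ideal.map_map, hfst] at this
    simpa [IsLocalization.liftAlgHom_apply, p] using this

end IsComplAlong

end Groth.Agent.ComplAlgLib
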