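import Mathlib
import Groth.Agent.ComplAlgLib.Main
import Groth.Agent.RegLocal.Complete

/-!
# A model of a complete algebra has it as completion
-/

set_option autoImplicit false
universe u

namespace Groth.Agent.ComplAlgLib

variable {B : Type u} [CommRing B]

theorem isComplAlong_adicCompletion [IsNoetherianRing B] (I : Ideal B) :
    IsComplAlong I (AdicCompletion I B) := by
  have hker : ∀ n, RingHom.ker (AdicCompletion.evalₐ I n).toRingHom =
      (I ^ n).map (algebraMap B (AdicCompletion I B)) := by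
    intro n
    ext x
    have h1 : x ∈ RingHom.ker (AdicCompletion.evalₐ I n).toRingHom ↔
        x ∈ (AdicCompletion.eval I B n).ker := by
      rw [RingHom.mem_ker, LinearMap.mem_ker]
      have h : (I ^ n • ⊤ : Ideal B) = I ^ n := by ext x; simp
      show Ideal.quotientEquivAlgOfEq B h (AdicCompletion.eval I B n x) = 0 ↔ _
      exact map_eq_zero_iff _ (AlgEquiv.injective _)
    rw [h1, ← AdicCompletion.pow_smul_top_eq_ker_eval I.fg_of_isNoetherianRing, Ideal.smul_top_eq_map,
      Submodule.restrictScalars_mem]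
  refine ⟨inferInstance, fun n x => ?_, fun n b hb => ?_⟩
  · obtain ⟨b, hb⟩ := Ideal.Quotient.mk_surjective (AdicCompletion.evalₐ I n x)
    refine ⟨b, ?_⟩
    rw [← hker, RingHom.mem_ker, map_sub]
    show AdicCompletion.evalₐ I n x - AdicCompletion.evalₐ I n (algebraMap B _ b) = 0
    rw [AlgHom.commutes, Ideal.Quotient.algebraMap_eq, hb, sub_self]
  · rw [← hker, RingHom.mem_ker] at hb
    change AdicCompletion.evalₐ I n (algebraMap B _ b) = 0 at hb
    rwa [AlgHom.commutes, Ideal.Quotient.algebraMap_eq, Ideal.Quotient.eq_zero_iff_mem] at hb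

/-- Limits in a quotient of a complete ring. -/
theorem exists_limit {R C : Type u} [CommRing R] [CommRing C] (L : Ideal R) [IsPrecomplete L R]
    (f : R →+* C) (hf : Function.Surjective f) (z : ℕ → C)
    (hz : ∀ n, z (n + 1) - z n ∈ (L ^ n).map f) : ∃ x : C, ∀ n, x - z n ∈ (L ^ n).map f := by
  choose δ hδ hδ' using fun n => (Ideal.mem_map_iff_of_surjective f hf).1 (hz n)
  obtain ⟨r₀, hr₀⟩ := hf (z 0)
  let s : ℕ → R := fun n => r₀ + ∑ i ∈ Finset.range n, δ i
  have hs : ∀ n, f (s n) = z n := by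
    intro n
    simp only [s, map_add, map_sum, hδ', hr₀, Finset.sum_range_sub z, add_sub_cancel]
  obtain ⟨x, hx⟩ := IsPrecomplete.prec (I := L) (M := R) inferInstance (f := s) (fun {m n} hmn => by
    rw [SModEq.sub_mem, smul_eq_mul, Ideal.mul_top]
    have : s m - s n = -∑ i ∈ Finset.Ico m n, δ i := by
      simp only [s, Finset.sum_Ico_eq_sub _ hmn]; ring
    rw [this]
    exact neg_mem (Ideal.sum_mem _ fun i hi => Ideal.pow_le_pow_right (Finset.mem_Ico.1 hi).1 (hδ i)))
  refine ⟨f x, fun n => ?_⟩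
  have := SModEq.sub_mem.1 (hx n)
  rw [smul_eq_mul, Ideal.mul_top] at this
  rw [← hs, ← map_sub, ← neg_sub (s n) x, map_neg]
  exact neg_mem (Ideal.mem_map_of_mem f this)

/-- The completion of a model. -/
theorem IsModel.exists_ringEquiv {R C D : Type u} [CommRing R] [CommRing C] [CommRing D] [Algebra B R]
    [Algebra B C] [Algebra B D] [Algebra R C] [IsScalarTower B R C] [IsNoetherianRing R]
    (I : Ideal B) [IsAdicComplete (I.map (algebraMap B R)) R]
    (hsurj : Function.Surjective (algebraMap R C)) {φ : D →ₐ[B] C} (hφ : IsModel I φ) :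
    ∃ e : C ≃+* AdicCompletion (I.map (algebraMap B D)) D, ∀ d : D, e (φ d) = algebraMap D _ d := by
  let L := I.map (algebraMap B D)
  have hL : ∀ n, L ^ n = (I ^ n).map (algebraMap B D) := fun n => (Ideal.map_pow _ _ _).symm
  let ψ : ∀ n, D ⧸ L ^ n →+* C ⧸ (I ^ n).map (algebraMap B C) := fun n =>
    Ideal.Quotient.lift _ ((Ideal.Quotient.mk _).comp φ.toRingHom) (fun d hd => by
      rw [RingHom.comp_apply, Ideal.Quotient.eq_zero_iff_mem]
      have := Ideal.mem_map_of_mem φ.toRingHom (hL n ▸ hd)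
      rwa [Ideal.map_map, show φ.toRingHom.comp (algebraMap B D) = algebraMap B C from φ.comp_algebraMap] at this)
  have hψ : ∀ n, Function.Bijective (ψ n) := fun n => by
    refine ⟨(injective_iff_map_eq_zero _).2 fun q hq => ?_, fun q => ?_⟩
    · obtain ⟨d, rfl⟩ := Ideal.Quotient.mk_surjective q
      simp only [ψ, Ideal.Quotient.lift_mk, RingHom.comp_apply, Ideal.Quotient.eq_zero_iff_mem] at hq ⊢
      exact (hL n).symm ▸ hφ.inj n d hq
    · obtain ⟨x, rfl⟩ := Ideal.Quotient.mk_surjective q
      obtain ⟨d, hd⟩ := hφ.surj n x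
      exact ⟨Ideal.Quotient.mk _ d, by
        simp only [ψ, Ideal.Quotient.lift_mk, RingHom.comp_apply]
        exact (Ideal.Quotient.eq.2 hd).symm⟩
  let ψe := fun n => RingEquiv.ofBijective (ψ n) (hψ n)
  let f : ∀ n, C →+* D ⧸ L ^ n := fun n => (ψe n).symm.toRingHom.comp (Ideal.Quotient.mk _)
  have hf0 : ∀ n (x : C) (d : D), f n x = Ideal.Quotient.mk _ d ↔ x - φ d ∈ (I ^ n).map (algebraMap B C) := by
    intro n x d
    show (ψe n).symm (Ideal.Quotient.mk _ x) = Ideal.Quotient.mk _ d ↔ _
    rw [RingEquiv.symm_apply_eq, show ψe n (Ideal.Quotient.mk _ d) = Ideal.Quotient.mk _ (φ d) from rfl,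
      Ideal.Quotient.eq]
  have hf : ∀ {m n : ℕ} (h : m ≤ n), (Ideal.Quotient.factorPow L h).comp (f n) = f m := by
    intro m n h
    ext x
    obtain ⟨d, hd⟩ := Ideal.Quotient.mk_surjective (f n x)
    rw [RingHom.comp_apply, ← hd]
    symm
    exact (hf0 m x d).2 (Ideal.map_mono (Ideal.pow_le_pow_right h) ((hf0 n x d).1 hd.symm))
  let Φ := AdicCompletion.liftRingHom L f hf
  have hΦ : ∀ n x, AdicCompletion.evalₐ L n (Φ x) = f n x := fun n x => AdicCompletion.evalₐ_liftRingHom L f hf n x
  have hIC : ∀ n, (I ^ n).map (algebraMap B C) = ((I.map (algebraMap B R)) ^ n).map (algebraMap R C) := fun n => by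
    rw [← Ideal.map_pow, Ideal.map_map, ← IsScalarTower.algebraMap_eq]
  have hinj : Function.Injective Φ := (injective_iff_map_eq_zero _).2 fun x hx => by
    haveI : IsNoetherianRing C := isNoetherianRing_of_surjective R C _ hsurj
    have hjac : I.map (algebraMap B C) ≤ Ideal.jacobson ⊥ := by
      rw [IsScalarTower.algebraMap_eq B R C, ← Ideal.map_map]
      intro z hz
      obtain ⟨r, hr, rfl⟩ := (Ideal.mem_map_iff_of_surjective _ hsurj).1 hz
      refine Ideal.mem_jacobson_bot.2 fun w => ?_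
      obtain ⟨w', rfl⟩ := hsurj w
      simpa using (Ideal.mem_jacobson_bot.1 (IsAdicComplete.le_jacobson_bot _ hr) w').map (algebraMap R C)
    have := IsHausdorff.of_le_jacobson (I.map (algebraMap B C)) C hjac
    refine this.haus _ fun n => ?_
    rw [SModEq.zero, smul_eq_mul, Ideal.mul_top, ← Ideal.map_pow]
    have h := hΦ n x
    rw [hx, map_zero] at h
    simpa using (hf0 n x 0).1 (by rw [← h, map_zero])
  have hsurjΦ : Function.Surjective Φ := fun y => by
    obtain ⟨d, rfl⟩ := AdicCompletion.mk_surjective L D y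
    obtain ⟨x, hx⟩ := exists_limit (I.map (algebraMap B R)) (algebraMap R C) hsurj (fun n => φ (d n))
      (fun n => by
        rw [← hIC, ← map_sub]
        have hm : d (n + 1) - d n ∈ L ^ n := by
          have := SModEq.sub_mem.1 (d.2 (Nat.le_succ n))
          rw [smul_eq_mul, Ideal.mul_top] at this
          rw [← neg_sub]
          exact neg_mem this
        have h := Ideal.mem_map_of_mem φ.toRingHom (hL n ▸ hm)
        rwa [Ideal.map_map, show φ.toRingHom.comp (algebraMap B D) = algebraMap B C from φ.comp_algebraMap] at h)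
    refine ⟨x, AdicCompletion.ext_evalₐ fun n => ?_⟩
    rw [hΦ, AdicCompletion.evalₐ_mk, hf0, hIC]
    exact hx n
  refine ⟨RingEquiv.ofBijective Φ ⟨hinj, hsurjΦ⟩, fun d => AdicCompletion.ext_evalₐ fun n => ?_⟩
  show AdicCompletion.evalₐ L n (Φ (φ d)) = AdicCompletion.evalₐ L n (algebraMap D _ d)
  rw [hΦ, AlgHom.commutes, Ideal.Quotient.algebraMap_eq, hf0, sub_self]
  exact zero_mem _

end Groth.Agent.ComplAlgLib
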